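import Mathlib

set_option autoImplicit false

namespace Groth.Agent.Lib.Helper77.CFF

/-- T5: Nakayama core. -/
theorem ker_le_of_nakayama {S A : Type*} [CommRing S] [IsNoetherianRing S] [CommRing A]
    (ψ : S →+* A) (π : S) (hπ : π ∈ Ideal.jacobson (⊥ : Ideal S)) (J : Ideal S)
    (h1 : ∀ s, ψ (π * s) = 0 → ψ s = 0) (h2 : RingHom.ker ψ ≤ J ⊔ Ideal.span {π})
    (hJ : J ≤ RingHom.ker ψ) : RingHom.ker ψ ≤ J := by
  have hK : RingHom.ker ψ ≤ J ⊔ Ideal.span {π} • RingHom.ker ψ := by
    intro y hy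
    obtain ⟨j, hj, t, ht, rfl⟩ := Submodule.mem_sup.1 (h2 hy)
    obtain ⟨s, rfl⟩ := Ideal.mem_span_singleton'.1 ht
    have hs : ψ s = 0 := by
      apply h1
      have h3 : ψ (j + s * π) = 0 := hy
      have h4 : ψ j = 0 := hJ hj
      rw [map_add, h4, zero_add] at h3
      rw [mul_comm]; exact h3
    refine Submodule.add_mem_sup hj ?_
    rw [mul_comm]
    exact Ideal.mul_mem_mul (Ideal.mem_span_singleton_self π) hs
  exact Submodule.le_of_le_smul_of_le_jacobson_bot (IsNoetherian.noetherian _)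
    (by rwa [Ideal.span_le, Set.singleton_subset_iff]) hK

/-- polynomials with all coefficients divisible by `π` are divisible by `C π`. -/
theorem exists_eq_C_mul {R σ : Type*} [CommRing R] (π : R) (P : MvPolynomial σ R)
    (h : ∀ d, ∃ c, P.coeff d = π * c) : ∃ P' : MvPolynomial σ R, P = MvPolynomial.C π * P' := by
  classical
  choose c hc using h
  refine ⟨∑ d ∈ P.support, MvPolynomial.monomial d (c d), ?_⟩
  conv_lhs => rw [P.as_sum]
  rw [Finset.mul_sum]
  apply Finset.sum_congr rfl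
  intro d _
  rw [MvPolynomial.C_mul_monomial, hc d]

end Groth.Agent.Lib.Helper77.CFF
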