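import Mathlib
import Groth.Agent.Lib.Helper66.TruncPolyQ
import Groth.Agent.Lib.Helper76.PowEval
import Groth.Agent.Lib.Helper77.CFF.Nak
import Groth.Agent.Lib.Helper66.CFFT1
import Groth.Agent.Lib.Helper66.CFFT2
import Groth.Agent.Lib.Helper76.CFFT3
import Groth.Agent.Lib.Helper24.CFFT4

set_option autoImplicit false
universe u v
open TensorProduct IsLocalRing
open Groth.Agent.Lib.Helper66.TruncPolyQ Groth.Agent.Lib.Helper66.CFFT1 Groth.Agent.Lib.Helper66.CFFT2
  Groth.Agent.Lib.Helper76.CFFT3 Groth.Agent.Lib.Helper24.CFFT4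

namespace Groth.Agent.Lib.Helper77.CFF

/-- the polynomial with prescribed coefficients on reduced exponents -/
noncomputable def polyOf {R : Type u} [CommRing R] {r : ℕ} (q : Fin r → ℕ)
    (c : redSet q → R) : MvPolynomial (Fin r) R :=
  letI : Fintype (redSet q) := Fintype.ofFinite _
  ∑ d : redSet q, MvPolynomial.monomial (d : Fin r →₀ ℕ) (c d)

theorem aeval_polyOf {R : Type u} [CommRing R] {A : Type v} [CommRing A] [Algebra R A]
    {r : ℕ} (q : Fin r → ℕ) (x : Fin r → A)
    (b : Module.Basis (redSet q) R A)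
    (hb : ∀ d : redSet q, b d = MvPolynomial.aeval x (MvPolynomial.monomial (d : Fin r →₀ ℕ) (1 : R)))
    (c : redSet q → R) :
    MvPolynomial.aeval x (polyOf q c) =
      letI : Fintype (redSet q) := Fintype.ofFinite _
      ∑ d : redSet q, c d • b d := by
  letI : Fintype (redSet q) := Fintype.ofFinite _
  unfold polyOf
  rw [map_sum]
  apply Finset.sum_congr rfl
  intro d _
  rw [hb d]
  have : MvPolynomial.monomial (d : Fin r →₀ ℕ) (c d) =
      c d • MvPolynomial.monomial (d : Fin r →₀ ℕ) (1 : R) := by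
    rw [MvPolynomial.smul_monomial, smul_eq_mul, mul_one]
  rw [this, map_smul]

theorem eq_polyOf {R : Type u} [CommRing R] {r : ℕ} (q : Fin r → ℕ)
    (P : MvPolynomial (Fin r) R) (hP : P ∈ MvPolynomial.restrictSupport R (redSet q)) :
    P = polyOf q (fun d => P.coeff (d : Fin r →₀ ℕ)) := by
  classical
  letI : Fintype (redSet q) := Fintype.ofFinite _
  unfold polyOf
  ext m
  rw [MvPolynomial.coeff_sum]
  simp only [MvPolynomial.coeff_monomial]
  by_cases hm : m ∈ redSet q
  · rw [Finset.sum_eq_single (⟨m, hm⟩ : redSet q)]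
    · simp
    · intro d _ hd
      rw [if_neg]
      intro h
      exact hd (Subtype.ext h)
    · intro h; exact absurd (Finset.mem_univ _) h
  · have h0 : P.coeff m = 0 := by
      by_contra hne
      exact hm (hP (MvPolynomial.mem_support_iff.2 hne))
    rw [h0]
    symm
    apply Finset.sum_eq_zero
    intro d _
    rw [if_neg]
    intro h
    exact hm (h ▸ d.2)

theorem main (R : Type u) [CommRing R] [IsDomain R] [IsDiscreteValuationRing R]
    [IsAdicComplete (maximalIdeal R) R]
    (p : ℕ) [Fact p.Prime] [CharP (ResidueField R) p] [PerfectField (ResidueField R)]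
    (A : Type v) [CommRing A] [HopfAlgebra R A] [Module.Finite R A] [Module.Flat R A]
    [IsLocalRing A] :
    ∃ (n : ℕ) (e : Fin n → ℕ) (g : Fin n → MvPolynomial (Fin n) R),
      (∀ i, (∀ d, (g i).coeff d ∈ maximalIdeal R) ∧ (g i).degreeOf i < p ^ e i) ∧
      Nonempty (A ≃ₐ[R] (MvPowerSeries (Fin n) R ⧸
        Ideal.span (Set.range fun i =>
          (MvPowerSeries.X i : MvPowerSeries (Fin n) R) ^ p ^ e i + ↑(g i)))) := by
  classical
  obtain ⟨r, e, ⟨φ₀⟩⟩ := exists_fibre_iso R p A
  let q : Fin r → ℕ := fun i => p ^ e i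
  have hq : ∀ i, 0 < q i := fun i => pow_pos (Fact.out : p.Prime).pos _
  letI : Fintype (redSet q) := Fintype.ofFinite _
  -- choose lifts
  have hsurj : ∀ t : ResidueField R ⊗[R] A, ∃ a : A, (1 : ResidueField R) ⊗ₜ[R] a = t := by
    intro t
    induction t using TensorProduct.induction_on with
    | zero => exact ⟨0, by simp⟩
    | tmul c a =>
      obtain ⟨c', rfl⟩ := IsLocalRing.residue_surjective c
      refine ⟨c' • a, ?_⟩
      rw [TensorProduct.tmul_smul, TensorProduct.smul_tmul']
      congr 1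
      rw [Algebra.smul_def, mul_one]; rfl
    | add t₁ t₂ h₁ h₂ =>
      obtain ⟨a₁, rfl⟩ := h₁
      obtain ⟨a₂, rfl⟩ := h₂
      exact ⟨a₁ + a₂, by rw [TensorProduct.tmul_add]⟩
  choose x hx using fun i : Fin r => hsurj (φ₀.symm (Ideal.Quotient.mk _ (MvPolynomial.X i)))
  have hx' : ∀ i, φ₀ ((1 : ResidueField R) ⊗ₜ[R] x i) =
      Ideal.Quotient.mk (JXq (ResidueField R) q) (MvPolynomial.X i) := by
    intro i; rw [hx]; simp; rfl
  obtain ⟨⟨b, hb⟩, g, hg1, hg2, hg3⟩ := exists_basis_lift R A q φ₀ x hx'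
  -- the truncated ring is nontrivial
  haveI : Nontrivial (MvPolynomial (Fin r) (ResidueField R) ⧸ JXq (ResidueField R) q) := by
    have h := finrank_quot_q (R := ResidueField R) (q := q)
    have hpos : 0 < Module.finrank (ResidueField R)
        (MvPolynomial (Fin r) (ResidueField R) ⧸ JXq (ResidueField R) q) := by
      rw [h]; exact Finset.prod_pos (fun i _ => hq i)
    exact Module.nontrivial_of_finrank_pos (R := ResidueField R) hpos
  -- `x i` lies in the maximal ideal
  have hxm : ∀ i, x i ∈ maximalIdeal A := by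
    intro i
    rw [IsLocalRing.mem_maximalIdeal, mem_nonunits_iff]
    intro hu
    have hu1 : IsUnit ((1 : ResidueField R) ⊗ₜ[R] x i) := by
      have := hu.map (Algebra.TensorProduct.includeRight : A →ₐ[R] ResidueField R ⊗[R] A)
      simpa using this
    have hu2 : IsUnit (Ideal.Quotient.mk (JXq (ResidueField R) q)
        (MvPolynomial.X i : MvPolynomial (Fin r) (ResidueField R))) := by
      rw [← hx' i]; exact hu1.map φ₀
    have hnil : (Ideal.Quotient.mk (JXq (ResidueField R) q)
        (MvPolynomial.X i : MvPolynomial (Fin r) (ResidueField R))) ^ q i = 0 := by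
      rw [← map_pow, Ideal.Quotient.eq_zero_iff_mem]
      exact Ideal.subset_span ⟨i, rfl⟩
    have := hu2.pow (q i)
    rw [hnil] at this
    exact not_isUnit_zero this
  obtain ⟨ψ, hψ⟩ := exists_eval R A x hxm
  obtain ⟨π, hπ⟩ := IsDiscreteValuationRing.exists_irreducible R
  have hmax : maximalIdeal R = Ideal.span {π} := hπ.maximalIdeal_eq
  have hπ0 : π ≠ 0 := hπ.ne_zero
  let S := MvPowerSeries (Fin r) R
  let J : Ideal S := Ideal.span (Set.range fun i =>
          (MvPowerSeries.X i : MvPowerSeries (Fin r) R) ^ p ^ e i + ↑(g i))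
  -- `ψ` at constants
  have hψC : ∀ c : R, ψ (MvPowerSeries.C c) = algebraMap R A c := by
    intro c
    rw [← MvPolynomial.coe_C, hψ, MvPolynomial.aeval_C]
  -- generators are killed
  have hgen : ∀ i, ((MvPowerSeries.X i : MvPowerSeries (Fin r) R) ^ p ^ e i + ↑(g i)) =
      ((MvPolynomial.X i ^ q i + g i : MvPolynomial (Fin r) R) : MvPowerSeries (Fin r) R) := by
    intro i
    rw [MvPolynomial.coe_add, MvPolynomial.coe_pow, MvPolynomial.coe_X]
  have hJ : J ≤ RingHom.ker (ψ : S →+* A) := by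
    rw [Ideal.span_le]
    rintro _ ⟨i, rfl⟩
    rw [SetLike.mem_coe, RingHom.mem_ker]
    show ψ ((MvPowerSeries.X i : MvPowerSeries (Fin r) R) ^ p ^ e i + ↑(g i)) = 0
    rw [hgen i, hψ, map_add, map_pow, MvPolynomial.aeval_X]
    exact hg3 i
  -- surjectivity
  have hsurjψ : Function.Surjective ψ := by
    intro a
    refine ⟨((polyOf q (fun d => b.repr a d) : MvPolynomial (Fin r) R) : S), ?_⟩
    rw [hψ, aeval_polyOf q x b hb]
    exact b.sum_repr a
  -- torsion-freeness
  have htf : ∀ a : A, π • a = 0 → a = 0 := by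
    intro a ha
    have h1 : b.repr (π • a) = 0 := by rw [ha, map_zero]
    rw [map_smul] at h1
    have h2 : b.repr a = 0 := by
      ext d
      have := congrArg (fun f => f d) h1
      simp only [Finsupp.smul_apply, smul_eq_mul, Finsupp.zero_apply] at this
      exact (mul_eq_zero.1 this).resolve_left hπ0
    exact b.repr.injective (by rw [h2, map_zero])
  have h1 : ∀ s : S, (ψ : S →+* A) (MvPowerSeries.C π * s) = 0 → (ψ : S →+* A) s = 0 := by
    intro s hs
    apply htf
    have : ψ (MvPowerSeries.C π * s) = 0 := hs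
    rw [map_mul, hψC, ← Algebra.smul_def] at this
    exact this
  -- `C π` is in the Jacobson radical
  have hjac : (MvPowerSeries.C π : S) ∈ Ideal.jacobson (⊥ : Ideal S) := by
    rw [Ideal.mem_jacobson_bot]
    intro y
    rw [MvPowerSeries.isUnit_iff_constantCoeff, map_add, map_mul, map_one,
      MvPowerSeries.constantCoeff_C]
    have hπm : π ∈ Ideal.jacobson (⊥ : Ideal R) := by
      rw [IsLocalRing.jacobson_eq_maximalIdeal ⊥ bot_ne_top, hmax]
      exact Ideal.mem_span_singleton_self π
    exact Ideal.mem_jacobson_bot.1 hπm _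
  -- polynomials with coefficients in `m` lie in `span {C π}`
  have hCπ : ∀ P : MvPolynomial (Fin r) R, (∀ d, P.coeff d ∈ maximalIdeal R) →
      ((P : MvPolynomial (Fin r) R) : S) ∈ Ideal.span {(MvPowerSeries.C π : S)} := by
    intro P hP
    obtain ⟨P', rfl⟩ := exists_eq_C_mul π P (fun d => by
      have := hP d
      rw [hmax, Ideal.mem_span_singleton'] at this
      obtain ⟨c, hc⟩ := this
      exact ⟨c, by rw [← hc, mul_comm]⟩)
    rw [MvPolynomial.coe_mul, MvPolynomial.coe_C]
    exact Ideal.mul_mem_right _ _ (Ideal.mem_span_singleton_self _)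
  -- the key inclusion
  have h2 : RingHom.ker (ψ : S →+* A) ≤ J ⊔ Ideal.span {(MvPowerSeries.C π : S)} := by
    intro y hy
    have hy0 : ψ y = 0 := hy
    obtain ⟨c, hc, hyc⟩ := exists_restrict_sub_mem q y
    have hle : Ideal.span (Set.range fun i => (MvPowerSeries.X i : S) ^ q i) ≤
        J ⊔ Ideal.span {(MvPowerSeries.C π : S)} := by
      rw [Ideal.span_le]
      rintro _ ⟨i, rfl⟩
      show (MvPowerSeries.X i : S) ^ q i ∈ J ⊔ Ideal.span {(MvPowerSeries.C π : S)}
      have : (MvPowerSeries.X i : S) ^ q i =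
          ((MvPowerSeries.X i : S) ^ p ^ e i + ↑(g i)) + (-(↑(g i) : S)) := by
        show _ = (MvPowerSeries.X i : S) ^ q i + ↑(g i) + (-(↑(g i) : S))
        ring
      rw [this]
      refine Submodule.add_mem_sup (Ideal.subset_span ⟨i, rfl⟩) ?_
      exact neg_mem (hCπ (g i) (hg2 i))
    have hyc' := hle hyc
    -- `ψ ↑c ∈ π A`
    have hψc : ∃ a' : A, MvPolynomial.aeval x c = π • a' := by
      have hmem : ∀ z ∈ J ⊔ Ideal.span {(MvPowerSeries.C π : S)}, ∃ a' : A, ψ z = π • a' := by
        intro z hz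
        obtain ⟨j, hj, t, ht, rfl⟩ := Submodule.mem_sup.1 hz
        obtain ⟨s, rfl⟩ := Ideal.mem_span_singleton'.1 ht
        refine ⟨ψ s, ?_⟩
        have hj0 : ψ j = 0 := hJ hj
        rw [map_add, hj0, zero_add, map_mul, hψC, Algebra.smul_def, mul_comm]
      obtain ⟨a', ha'⟩ := hmem _ hyc'
      refine ⟨-a', ?_⟩
      rw [map_sub, hy0, zero_sub, hψ] at ha'
      rw [smul_neg, ← ha', neg_neg]
    obtain ⟨a', ha'⟩ := hψc
    -- coefficients of `c` are divisible by `π`
    have hcoef : ∀ d : redSet q, c.coeff (d : Fin r →₀ ℕ) = π * b.repr a' d := by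
      intro d
      have e1 : MvPolynomial.aeval x c = ∑ d : redSet q, c.coeff (d : Fin r →₀ ℕ) • b d := by
        conv_lhs => rw [eq_polyOf q c hc]
        exact aeval_polyOf q x b hb _
      have e2 := congrArg (fun z => b.repr z d) (e1.symm.trans ha')
      simp only [map_smul, Finsupp.smul_apply, smul_eq_mul] at e2
      rw [← e2, Module.Basis.repr_sum_self]
    have hcm : ∀ d, c.coeff d ∈ maximalIdeal R := by
      intro d
      by_cases hd : d ∈ redSet q
      · rw [hcoef ⟨d, hd⟩, hmax]
        exact Ideal.mul_mem_right _ _ (Ideal.mem_span_singleton_self π)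
      · have : c.coeff d = 0 := by
          by_contra hne
          exact hd (hc (MvPolynomial.mem_support_iff.2 hne))
        rw [this]; exact Ideal.zero_mem _
    have : y = (y - (c : S)) + (c : S) := by ring
    rw [this]
    exact add_mem hyc' (Submodule.mem_sup_right (hCπ c hcm))
  have hker : RingHom.ker (ψ : S →+* A) = J :=
    le_antisymm (ker_le_of_nakayama (ψ : S →+* A) (MvPowerSeries.C π) hjac J h1 h2 hJ) hJ
  refine ⟨r, e, g, fun i => ⟨hg2 i, ?_⟩, ?_⟩
  · rw [MvPolynomial.degreeOf_lt_iff (hq i)]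
    intro m hm
    exact hg1 i hm i
  · have e1 : (S ⧸ RingHom.ker (ψ : S →ₐ[R] A)) ≃ₐ[R] A :=
      Ideal.quotientKerAlgEquivOfSurjective hsurjψ
    have e2 : (S ⧸ RingHom.ker (ψ : S →ₐ[R] A)) ≃ₐ[R] (S ⧸ J) :=
      Ideal.quotientEquivAlgOfEq R hker
    exact ⟨e1.symm.trans e2⟩

end Groth.Agent.Lib.Helper77.CFF
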